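import Mathlib
import Cfsg.Agent.H756.PU.Engine

/-!
# S5258, (G10): uniqueness of lifts (cocycle averaging)

`stLift : StLift`.
-/

set_option autoImplicit false

namespace Cfsg.Agent.H161.PU

universe u

open Subgroup

section
variable {G : Type u} [Group G] [Finite G] {p : ℕ} [hp : Fact p.Prime]

/-- the elements of `C` centralizing `L` modulo `I` -/
def BB (C L I : Subgroup G) (hC : ∀ x ∈ C, ∀ y ∈ C, x * y = y * x) (hI : I ≤ C) : Subgroup G where
  carrier := {x | x ∈ C ∧ ∀ g ∈ L, x * g * x⁻¹ * g⁻¹ ∈ I}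
  one_mem' := ⟨C.one_mem, fun g _ => by simpa using I.one_mem⟩
  mul_mem' := by
    rintro x y ⟨hx, hx'⟩ ⟨hy, hy'⟩
    refine ⟨C.mul_mem hx hy, fun g hg => ?_⟩
    have h1 := hy' g hg
    have e : x * y * g * (x * y)⁻¹ * g⁻¹ = (x * (y * g * y⁻¹ * g⁻¹) * x⁻¹) * (x * g * x⁻¹ * g⁻¹) := by group
    have e2 : x * (y * g * y⁻¹ * g⁻¹) * x⁻¹ = y * g * y⁻¹ * g⁻¹ := by
      rw [hC x hx _ (hI h1), mul_inv_cancel_right]
    rw [e, e2]
    exact I.mul_mem h1 (hx' g hg)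
  inv_mem' := by
    rintro x ⟨hx, hx'⟩
    refine ⟨C.inv_mem hx, fun g hg => ?_⟩
    have h1 := I.inv_mem (hx' g hg)
    have e : x⁻¹ * g * x⁻¹⁻¹ * g⁻¹ = x⁻¹ * (x * g * x⁻¹ * g⁻¹)⁻¹ * x := by group
    rw [e, hC _ (C.inv_mem hx) _ (hI h1), inv_mul_cancel_right]
    exact h1

theorem mem_BB {C L I : Subgroup G} {hC : ∀ x ∈ C, ∀ y ∈ C, x * y = y * x} {hI : I ≤ C} {x : G} :
    x ∈ BB C L I hC hI ↔ x ∈ C ∧ ∀ g ∈ L, x * g * x⁻¹ * g⁻¹ ∈ I := Iff.rfl

/-- the cocycle is a coboundary -/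
theorem exists_conj (C L L' P I : Subgroup G) (hCn : C.Normal) (hC : ∀ x ∈ C, ∀ y ∈ C, x * y = y * x)
    (hp : IsPGroup p C) (hsup : L ⊔ C = L' ⊔ C) (hI : L ⊓ C = I) (hI' : L' ⊓ C = I) (hPL : P ≤ L) (hPL' : P ≤ L')
    (hidx : ¬ p ∣ P.relIndex L) : ∃ c ∈ C, ∀ g ∈ L, c * g * c⁻¹ ∈ L' := by
  have hIC : I ≤ C := by rw [← hI]; exact inf_le_right
  have hIL : I ≤ L := by rw [← hI]; exact inf_le_left
  have hIL' : I ≤ L' := by rw [← hI']; exact inf_le_left
  let iC : CommGroup C := { (inferInstance : Group C) with mul_comm := fun a b => Subtype.ext (hC a a.2 b b.2) }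
  -- the quotient
  set J : Subgroup C := I.subgroupOf C with hJ
  let A := C ⧸ J
  let mk : C →* C ⧸ J := QuotientGroup.mk' J
  have hmk : ∀ x y : C, mk x = mk y ↔ ((x : G)⁻¹ * y) ∈ I := by
    intro x y
    rw [QuotientGroup.mk'_apply, QuotientGroup.mk'_apply, QuotientGroup.eq, mem_subgroupOf]
    rfl
  -- the difference
  have hex : ∀ g : L, ∃ x : C, (x : G) * g ∈ L' := by
    intro g
    have h1 : (g : G) ∈ L' ⊔ C := by rw [← hsup]; exact mem_sup_left g.2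
    rw [sup_comm] at h1
    obtain ⟨y, hy, z, hz, h2⟩ := (mem_sup_of_normal_left).1 h1
    exact ⟨⟨y⁻¹, C.inv_mem hy⟩, by rw [← h2]; simpa using hz⟩
  choose ε hε using hex
  have huniq : ∀ (g : L) (x : C), (x : G) * g ∈ L' → mk (ε g) = mk x := by
    intro g x hx
    rw [hmk]
    have h1 : (x : G) * g * ((ε g : G) * g)⁻¹ ∈ L' := L'.mul_mem hx (L'.inv_mem (hε g))
    have e : (x : G) * g * ((ε g : G) * g)⁻¹ = x * (ε g : G)⁻¹ := by group
    rw [e, hC _ x.2 _ (C.inv_mem (ε g).2)] at h1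
    rw [← hI']
    exact ⟨h1, C.mul_mem (C.inv_mem (ε g).2) x.2⟩
  -- conjugation
  let cj : L → C → C := fun g x => ⟨g * x * (g : G)⁻¹, hCn.conj_mem x x.2 g⟩
  have hcjmul : ∀ g x y, cj g (x * y) = cj g x * cj g y := by
    intro g x y
    apply Subtype.ext
    change (g : G) * (x * y) * (g : G)⁻¹ = (g * x * (g : G)⁻¹) * (g * y * (g : G)⁻¹)
    group
  let cjh : L → (C →* C) := fun g => MonoidHom.mk' (cj g) (hcjmul g)
  have hcoc : ∀ g h : L, mk (ε (g * h)) = mk (ε g) * mk (cj g (ε h)) := by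
    intro g h
    rw [← map_mul]
    apply huniq
    change (ε g : G) * (g * ε h * (g : G)⁻¹) * (g * h) ∈ L'
    have e : (ε g : G) * (g * ε h * (g : G)⁻¹) * (g * h) = (ε g * g) * (ε h * h) := by group
    rw [e]
    exact L'.mul_mem (hε g) (hε h)
  have hP1 : ∀ x : L, (x : G) ∈ P → ∀ g : L, mk (ε (g * x)) = mk (ε g) := by
    intro x hx g
    have h1 : mk (ε x) = mk 1 := huniq x 1 (by simpa using hPL' hx)
    rw [hcoc]
    have h2 : mk (cj g (ε x)) = 1 := by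
      rw [map_one, ] at h1
      have h3 : (ε x : G) ∈ I := by
        have := (hmk (ε x) 1).1 (by rw [map_one]; exact h1)
        simpa using this
      have h4 : ((cj g (ε x) : C) : G) ∈ I := by
        rw [← hI]
        exact ⟨L.mul_mem (L.mul_mem g.2 (hIL h3)) (L.inv_mem g.2), (cj g (ε x)).2⟩
      have h5 := (hmk (cj g (ε x)) 1).2 (by simpa using h4)
      rw [h5, map_one]
    rw [h2, mul_one]
  -- the average
  set m := P.relIndex L with hm
  let Q := L ⧸ P.subgroupOf L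
  have hQf : Finite Q := Quotient.finite _
  let _ : Fintype Q := Fintype.ofFinite Q
  have hQc : Fintype.card Q = m := by
    rw [← Nat.card_eq_fintype_card]
    rfl
  let b : C := ∏ q : Q, ε q.out
  have hbar : ∀ h : L, ∏ q : Q, mk (ε (h * q.out)) = mk b := by
    intro h
    rw [show mk b = ∏ q : Q, mk (ε q.out) from map_prod mk _ _]
    refine Fintype.prod_equiv (MulAction.toPerm h) _ _ fun q => ?_
    change mk (ε (h * q.out)) = mk (ε (h • q).out)
    have h1 : (QuotientGroup.mk (h • q).out : Q) = QuotientGroup.mk (h * q.out) := by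
      rw [QuotientGroup.out_eq', ← smul_eq_mul, ← MulAction.Quotient.smul_mk, QuotientGroup.out_eq']
    have h2 := QuotientGroup.eq.1 h1.symm
    have h3 := hP1 _ (mem_subgroupOf.1 h2) (h * q.out)
    rw [mul_inv_cancel_left] at h3
    exact h3.symm
  have hconj : ∀ h : L, mk (cj h b) * mk (ε h) ^ m = mk b := by
    intro h
    have h1 : cj h b = ∏ q : Q, cj h (ε q.out) := map_prod (cjh h) _ _
    rw [h1, map_prod, ← hQc, ← Finset.card_univ, ← Finset.prod_const, ← Finset.prod_mul_distrib, ← hbar h]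
    refine Finset.prod_congr rfl fun q _ => ?_
    rw [hcoc, mul_comm]
  -- the root
  have hcop : (Nat.card C).Coprime m := by
    obtain ⟨k, hk⟩ := IsPGroup.iff_card.1 hp
    rw [hk]
    exact Nat.Coprime.pow_left _ ((Nat.Prime.coprime_iff_not_dvd Fact.out).2 hidx)
  have hcopA : (Nat.card (C ⧸ J)).Coprime m := hcop.coprime_dvd_left (Subgroup.card_quotient_dvd_card J)
  obtain ⟨c, hc⟩ := (powCoprime hcop).surjective b
  have hc : c ^ m = b := hc
  refine ⟨c, c.2, fun g hg => ?_⟩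
  set h : L := ⟨g, hg⟩ with hh
  have h1 := hconj h
  rw [← hc] at h1
  have h2 : cj h (c ^ m) = (cj h c) ^ m := map_pow (cjh h) c m
  rw [h2, map_pow, map_pow, ← mul_pow] at h1
  have h3 : mk (cj h c) * mk (ε h) = mk c := (powCoprime hcopA).injective h1
  rw [← map_mul, hmk] at h3
  -- `(cj h c * ε h)⁻¹ * c ∈ I`
  have h4 : ((cj h c * ε h : C) : G)⁻¹ * c ∈ L' := hIL' h3
  change ((g * c * g⁻¹) * (ε h : G))⁻¹ * c ∈ L' at h4
  have h5 : (ε h : G) * g ∈ L' := hε h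
  have h6 : g * (c : G) * g⁻¹ ∈ C := hCn.conj_mem c c.2 g
  have e : (c : G) * g * (c : G)⁻¹ = (((g * c * g⁻¹) * (ε h : G))⁻¹ * c) * ((ε h : G) * g) := by
    have e1 : ((g * (c : G) * g⁻¹) * (ε h : G))⁻¹ * c = (ε h : G)⁻¹ * (c * (g * (c : G) * g⁻¹)⁻¹) := by
      rw [mul_inv_rev, mul_assoc, hC _ (C.inv_mem h6) _ c.2]
    have e2 : (ε h : G)⁻¹ * (c * (g * (c : G) * g⁻¹)⁻¹) = (c * (g * (c : G) * g⁻¹)⁻¹) * (ε h : G)⁻¹ :=
      hC _ (C.inv_mem (ε h).2) _ (C.mul_mem c.2 (C.inv_mem h6))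
    rw [e1, e2]
    group
  rw [e]
  exact L'.mul_mem h4 h5

end

theorem stLift : Cfsg.Agent.H756.PU.StLift.{u} := by
  intro G _ _ p hpf C L L' P H hCn hC hpC hsup hinf hPL hPL' hIP hidx _ _ hHL hHL' hcop hfix
  set I := L ⊓ C with hI
  have hIC : I ≤ C := inf_le_right
  have hIL : I ≤ L := inf_le_left
  have hIL' : I ≤ L' := by rw [hinf]; exact inf_le_left
  obtain ⟨c, hc, hcL⟩ := exists_conj (p := p) C L L' P I hCn hC hpC hsup rfl hinf.symm hPL hPL' hidx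
  -- the other inclusion
  have hcL' : ∀ g ∈ L', c⁻¹ * g * c ∈ L := by
    intro g hg
    have h1 : g ∈ C ⊔ L := by rw [sup_comm, hsup]; exact mem_sup_left hg
    obtain ⟨x, hx, l, hl, rfl⟩ := (mem_sup_of_normal_left).1 h1
    have h2 : x * l * (c * l * c⁻¹)⁻¹ ∈ L' := L'.mul_mem hg (L'.inv_mem (hcL l hl))
    have h3 : x * l * (c * l * c⁻¹)⁻¹ ∈ C := by
      have e : x * l * (c * l * c⁻¹)⁻¹ = x * (l * c * l⁻¹) * c⁻¹ := by group
      rw [e]
      exact C.mul_mem (C.mul_mem hx (hCn.conj_mem c hc l)) (C.inv_mem hc)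
    have h4 : x * l * (c * l * c⁻¹)⁻¹ ∈ I := by rw [hinf]; exact ⟨h2, h3⟩
    have e : c⁻¹ * (x * l) * c = (c⁻¹ * (x * l * (c * l * c⁻¹)⁻¹) * c) * l := by group
    rw [e, hC _ (C.inv_mem hc) _ h3, inv_mul_cancel_right]
    exact L.mul_mem (hIL h4) hl
  -- the group `B`
  set B := BB C L I hC hIC with hB
  have hHC : ∀ t ∈ H, ∀ x ∈ C, t * x * t⁻¹ ∈ C := fun t _ x hx => hCn.conj_mem x hx t
  have hd : ∀ t ∈ H, t * c * t⁻¹ * c⁻¹ ∈ B := by
    intro t ht
    have hct := hHC t ht c hc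
    refine ⟨C.mul_mem hct (C.inv_mem hc), fun g hg => ?_⟩
    have h1 : t⁻¹ * g * t ∈ L := by
      have := (mem_normalizer_iff.1 (inv_mem (hHL ht)) g).1 hg
      simpa using this
    have h2 : t * (c * (t⁻¹ * g * t) * c⁻¹) * t⁻¹ ∈ L' := (mem_normalizer_iff.1 (hHL' ht) _).1 (hcL _ h1)
    have h3 := hcL' _ h2
    have e1 : t * c * t⁻¹ * c⁻¹ = c⁻¹ * (t * c * t⁻¹) := hC _ hct _ (C.inv_mem hc)
    have h4 : (t * c * t⁻¹ * c⁻¹) * g * (t * c * t⁻¹ * c⁻¹)⁻¹ ∈ L := by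
      rw [e1]
      have e : c⁻¹ * (t * c * t⁻¹) * g * (c⁻¹ * (t * c * t⁻¹))⁻¹ = c⁻¹ * (t * (c * (t⁻¹ * g * t) * c⁻¹) * t⁻¹) * c := by
        group
      rw [e]
      exact h3
    refine ⟨L.mul_mem h4 (L.inv_mem hg), ?_⟩
    have e : (t * c * t⁻¹ * c⁻¹) * g * (t * c * t⁻¹ * c⁻¹)⁻¹ * g⁻¹ =
        (t * c * t⁻¹ * c⁻¹) * (g * (t * c * t⁻¹ * c⁻¹)⁻¹ * g⁻¹) := by group
    rw [e]
    have h5 : t * c * t⁻¹ * c⁻¹ ∈ C := C.mul_mem hct (C.inv_mem hc)
    exact C.mul_mem h5 (hCn.conj_mem _ (C.inv_mem h5) g)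
  -- the average over `H`
  have hcB : c ∈ B := by
    let iC : CommGroup C := { (inferInstance : Group C) with mul_comm := fun a b => Subtype.ext (hC a a.2 b b.2) }
    have hHf : Finite H := inferInstance
    let _ : Fintype H := Fintype.ofFinite H
    let f : H → C := fun t => ⟨t * c * (t : G)⁻¹, hHC t t.2 c hc⟩
    let e : C := ∏ t : H, f t
    have he : (e : G) = 1 := by
      refine hfix e e.2 fun s hs => ?_
      have h1 : (⟨s * e * s⁻¹, hHC s hs e e.2⟩ : C) = e := by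
        let φ : C →* C := MonoidHom.mk' (fun x => (⟨s * x * s⁻¹, hHC s hs x x.2⟩ : C)) fun x y => by
          apply Subtype.ext
          change s * (x * y) * s⁻¹ = s * x * s⁻¹ * (s * y * s⁻¹)
          group
        change φ e = e
        rw [show φ e = ∏ t : H, φ (f t) from map_prod φ _ _]
        refine Fintype.prod_equiv (Equiv.mulLeft (⟨s, hs⟩ : H)) _ _ fun t => ?_
        apply Subtype.ext
        change s * (t * c * (t : G)⁻¹) * s⁻¹ = (s * t) * c * (s * t : G)⁻¹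
        group
      have h2 := congrArg (fun x : C => (x : G)) h1
      change s * (e : G) * s⁻¹ = e at h2
      exact mul_inv_eq_iff_eq_mul.1 h2
    have h3 : e = (∏ t : H, (⟨t * c * (t : G)⁻¹ * c⁻¹, (hd t t.2).1⟩ : C)) * (⟨c, hc⟩ : C) ^ Fintype.card H := by
      rw [← Finset.card_univ, ← Finset.prod_const, ← Finset.prod_mul_distrib]
      refine Finset.prod_congr rfl fun t _ => ?_
      apply Subtype.ext
      change (t : G) * c * (t : G)⁻¹ = t * c * (t : G)⁻¹ * c⁻¹ * c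
      group
    have h4 : ((∏ t : H, (⟨t * c * (t : G)⁻¹ * c⁻¹, (hd t t.2).1⟩ : C) : C) : G) ∈ B := by
      have h5 : (∏ t : H, (⟨t * c * (t : G)⁻¹ * c⁻¹, (hd t t.2).1⟩ : C)) ∈ B.subgroupOf C :=
        Subgroup.prod_mem _ fun t _ => mem_subgroupOf.2 (hd t t.2)
      exact mem_subgroupOf.1 h5
    have h5 : c ^ Fintype.card H ∈ B := by
      have h6 := congrArg (fun x : C => (x : G)) h3
      change (e : G) = _ * c ^ Fintype.card H at h6
      rw [he] at h6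
      have h7 : c ^ Fintype.card H = ((∏ t : H, (⟨t * c * (t : G)⁻¹ * c⁻¹, (hd t t.2).1⟩ : C) : C) : G)⁻¹ :=
        (inv_eq_of_mul_eq_one_right h6.symm).symm
      rw [h7]
      exact B.inv_mem h4
    -- the order of `c` is prime to `|H|`
    have h6 : (orderOf c).Coprime (Fintype.card H) := by
      obtain ⟨k, hk⟩ := IsPGroup.iff_card.1 hpC
      have h7 : orderOf c ∣ p ^ k := by
        rw [← hk]
        exact Subgroup.orderOf_dvd_natCard C hc
      rw [← Nat.card_eq_fintype_card]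
      exact Nat.Coprime.coprime_dvd_left h7 (Nat.Coprime.pow_left _ hcop.symm)
    have h7 : c ∈ zpowers (c ^ Fintype.card H) := by
      have h8 := (exists_pow_eq_self_of_coprime (n := Fintype.card H) (x := c) h6.symm)
      obtain ⟨n, hn⟩ := h8
      exact ⟨n, by simpa using hn⟩
    exact (zpowers_le.2 h5) h7
  -- conclusion
  apply le_antisymm
  · intro g hg
    have h1 := hcL g hg
    have h2 := hcB.2 g hg
    have h3 : g = (c * g * c⁻¹ * g⁻¹)⁻¹ * (c * g * c⁻¹) := by group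
    rw [h3]
    exact L'.mul_mem (L'.inv_mem (hIL' h2)) h1
  · intro g hg
    have h1 := hcL' g hg
    have h2 := hcB.2 _ h1
    have h3 : g = (c * (c⁻¹ * g * c) * c⁻¹ * (c⁻¹ * g * c)⁻¹) * (c⁻¹ * g * c) := by group
    rw [h3]
    exact L.mul_mem (hIL h2) h1

end Cfsg.Agent.H161.PU
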